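import Groth.Agent.Triage.CMMor
import Groth.Agent.FlatLoc6.DimEq
import Groth.Prelude.Def_CInt

/-!
# Fibre codimension along a surjective morphism
-/

set_option autoImplicit false
universe u
open CategoryTheory AlgebraicGeometry IsLocalRing

namespace Groth.Agent.FibreCodimComp

theorem exists_stalk_dim_zero (F : Scheme.{u}) [Nonempty F] :
    ∃ w : F, ringKrullDim (F.presheaf.stalk w) = 0 := by
  obtain ⟨w₀⟩ := ‹Nonempty F›
  have hC := isIrreducible_irreducibleComponent (x := w₀)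
  let η : F := hC.genericPoint
  have hη : closure ({η} : Set F) = irreducibleComponent w₀ := by
    rw [hC.isGenericPoint_genericPoint isClosed_irreducibleComponent]
  refine ⟨η, ?_⟩
  rw [ringKrullDim_stalk_eq_coheight, WithBot.coe_eq_zero, Order.coheight_eq_zero]
  intro z hz
  have hz' : z ⤳ η := hz
  have hsub : irreducibleComponent w₀ ⊆ closure {z} := by
    rw [← hη]; exact closure_minimal (Set.singleton_subset_iff.mpr (specializes_iff_mem_closure.mp hz')) isClosed_closure
  have heq : closure ({z} : Set F) ⊆ irreducibleComponent w₀ :=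
    (irreducibleComponent_mem_irreducibleComponents w₀).2 (isIrreducible_singleton.closure) hsub
  show η ⤳ z
  rw [specializes_iff_mem_closure, hη]
  exact heq (subset_closure rfl)

theorem iInf_le_of_surjective {X X' S : Scheme.{u}} [IsLocallyNoetherian X] [IsLocallyNoetherian X']
    (f : X ⟶ S) (g : X' ⟶ X) [Surjective g] (Y : Set ↥X) :
    (⨅ y' : (fun x' => g x') ⁻¹' Y, ringKrullDim ↑(CInt.fiberStalk (g ≫ f) y'.1)) ≤
      ⨅ y : Y, ringKrullDim ↑(CInt.fiberStalk f y.1) := by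
  refine le_iInf fun y => ?_
  obtain ⟨y, hy⟩ := y
  haveI : Nonempty (g.fiber y) := by
    obtain ⟨x', hx'⟩ := g.surjective y
    exact ⟨hx' ▸ g.asFiber x'⟩
  obtain ⟨w, hw⟩ := exists_stalk_dim_zero (g.fiber y)
  obtain ⟨x', hxw⟩ : ∃ x', g.fiberι y w = x' := ⟨_, rfl⟩
  have hx' : g x' = y := by
    have : x' ∈ Set.range (g.fiberι y) := ⟨w, hxw⟩
    rwa [Scheme.Hom.range_fiberι] at this
  refine (iInf_le _ ⟨x', show g x' ∈ Y from hx'.symm ▸ hy⟩).trans ?_
  subst hx'
  let ψ := (f.stalkMap (g x')).hom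
  let φ := (g.stalkMap x').hom
  let I := (maximalIdeal (S.presheaf.stalk (f (g x')))).map ψ
  have e1 := Triage.CMMor.exists_equiv_fibre_stalk f (g x')
  have e2 := Triage.CMMor.exists_equiv_fibre_stalk (g ≫ f) x'
  have e3 := Triage.CMMor.exists_equiv_fibre_stalk_aux g x' (g x') rfl w hxw
  rw [FibFlat.sm_self] at e3
  have hI : I ≤ maximalIdeal _ := map_maximalIdeal_le ψ
  haveI : Nontrivial (X.presheaf.stalk (g x') ⧸ I) :=
    Ideal.Quotient.nontrivial_iff.mpr fun h => (maximalIdeal.isMaximal _).ne_top (top_le_iff.mp (h ▸ hI))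
  haveI : IsLocalRing (X.presheaf.stalk (g x') ⧸ I) :=
    IsLocalRing.of_surjective' _ Ideal.Quotient.mk_surjective
  let J := I.map φ
  have hJ : J ≤ maximalIdeal _ := (Ideal.map_mono hI).trans (map_maximalIdeal_le φ)
  haveI : Nontrivial (X'.presheaf.stalk x' ⧸ J) :=
    Ideal.Quotient.nontrivial_iff.mpr fun h => (maximalIdeal.isMaximal _).ne_top (top_le_iff.mp (h ▸ hJ))
  haveI : IsLocalRing (X'.presheaf.stalk x' ⧸ J) :=
    IsLocalRing.of_surjective' _ Ideal.Quotient.mk_surjective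
  let q : (X.presheaf.stalk (g x') ⧸ I) →+* (X'.presheaf.stalk x' ⧸ J) :=
    Ideal.quotientMap J φ Ideal.le_comap_map
  letI := q.toAlgebra
  haveI : IsLocalHom (algebraMap (X.presheaf.stalk (g x') ⧸ I) (X'.presheaf.stalk x' ⧸ J)) := by
    refine ⟨fun a ha => ?_⟩
    obtain ⟨a, rfl⟩ := Ideal.Quotient.mk_surjective a
    have ha' : IsUnit (Ideal.Quotient.mk J (φ a)) := ha
    haveI : IsLocalHom (Ideal.Quotient.mk J) :=
      IsLocalHom.of_surjective _ Ideal.Quotient.mk_surjective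
    exact (isUnit_of_map_unit φ a (isUnit_of_map_unit (Ideal.Quotient.mk J) _ ha')).map _
  have hmA : maximalIdeal (X.presheaf.stalk (g x') ⧸ I) = (maximalIdeal _).map (Ideal.Quotient.mk I) :=
    (RegLoc6.map_maximalIdeal_quot I).symm
  have hmB : EGA4.mB (X.presheaf.stalk (g x') ⧸ I) (X'.presheaf.stalk x' ⧸ J) =
      ((maximalIdeal _).map φ).map (Ideal.Quotient.mk J) := by
    show Ideal.map q _ = _
    rw [hmA, Ideal.map_map, Ideal.map_map]
    rfl
  have h0 : ringKrullDim (EGA4.FibRing (X.presheaf.stalk (g x') ⧸ I) (X'.presheaf.stalk x' ⧸ J)) = 0 := by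
    rw [ringKrullDim_eq_of_ringEquiv ((Ideal.quotEquivOfEq hmB).trans
      (DoubleQuot.quotQuotEquivQuotOfLE (Ideal.map_mono hI))), ringKrullDim_eq_of_ringEquiv e3.some]
    exact hw
  have key := FlatLoc6.ringKrullDim_le_add_fibre (A := X.presheaf.stalk (g x') ⧸ I)
    (B := X'.presheaf.stalk x' ⧸ J)
  rw [h0, add_zero, ringKrullDim_eq_of_ringEquiv e1.some] at key
  refine le_trans (le_of_eq ?_) key
  rw [← ringKrullDim_eq_of_ringEquiv e2.some]
  refine ringKrullDim_eq_of_ringEquiv (Ideal.quotEquivOfEq ?_)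
  show _ = ((maximalIdeal _).map ψ).map φ
  rw [Ideal.map_map, Scheme.Hom.stalkMap_comp]
  rfl

end Groth.Agent.FibreCodimComp
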